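import Cfsg.Agent.H297.SK.Opp
import Cfsg.Agent.H282.SK.Out
import Cfsg.Agent.H731.SK.Rows
import Cfsg.Agent.H420.PG.CharTwo
import Cfsg.Agent.S2177
import Cfsg.Agent.S2180
import Cfsg.Agent.H245.DG.GTwoAut

/-!
# S3010 (Sidki pairs): the row `G₂(q)`, `q ≥ 4` even (helper284)

`good_G2` : every involution of `G₂(q)`, `q ≥ 4` even, is good; `g2` : the row.
-/

set_option autoImplicit false
set_option Elab.async false
set_option linter.unusedSectionVars false

namespace Cfsg.Agent.H284.SK.G2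

open CoxeterSystem Cfsg.Agent.ChevalleyStructure.CoxeterGeom Cfsg.Agent.Tits.Roots Cfsg.Agent.Tits.Core
open Cfsg.Lie Cfsg.Agent.ChevalleyStructure Cfsg.Agent.ChevalleyStructure.Elts
  Cfsg.Agent.ChevalleyStructure.RootVec Cfsg.Agent.ChevalleyStructure.CoxeterGeomTypes
open Cfsg.Agent.Nodes Cfsg.Agent.Nodes.Reps Cfsg.Agent.Nodes.BNOf Cfsg.Agent.Nodes.RGDChev Cfsg.Agent.Nodes.Coroot
  Cfsg.Agent.Nodes.Bruhat Cfsg.Agent.Nodes.OppDec Cfsg.Agent.Nodes.LeviDec Cfsg.Agent.Nodes.StabComb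
open Cfsg.Agent.H70.ChevFix (xe coe_xe xe_inj xe_add xe_zero)
open Cfsg.Agent.H282.SK
open Cfsg.Agent.ChevalleyStructure.SL2Hom (up lo)
open Cfsg.Agent.Nodes.RGDFoldSL (psi psi_up psi_lo)
open Cfsg.Agent.H420.PG (okB comm_of nG_conj_two)

universe u

theorem hp : IsType chevG2 2 CoxeterMatrix.G₂ := by simp [IsType, typeList]

theorem hD : InList chevG2 := hp.inList

theorem nroots : chevG2.nroots = 12 := by decide +kernel

/-- the vector of a root -/
abbrev v (r : ℕ) : Fin 2 → ℤ := vec chevG2 2 r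

variable {W : Type*} [Group W] (cs : CoxeterSystem CoxeterMatrix.G₂ W)

theorem isRoot_v {r : ℕ} (hr : r < 12) : IsRoot cs hp.isCartan (v r) := isRoot_vec hp cs (by rwa [nroots])

theorem exists_v {x : Fin 2 → ℤ} (hx : IsRoot cs hp.isCartan x) : ∃ r < 12, v r = x := by
  obtain ⟨r, hr, e⟩ := (isRoot_iff hp cs x).1 hx
  exact ⟨r, by rwa [nroots] at hr, e⟩

theorem neg_eq : ∀ r < 12, chevG2.neg r = 11 - r := by decide +kernel

theorem v_neg {r : ℕ} (hr : r < 12) : v (11 - r) = -v r := by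
  rw [← neg_eq r hr]
  exact vec_neg hp (by rwa [nroots])

theorem reflect_lt : ∀ i : Fin 2, ∀ r < 12, chevG2.reflectRoot i r < 12 := by
  intro i r hr
  have := NPerm.reflectRoot_lt hp.inList (lt_rank hp i) (s := r) (by rw [nroots]; exact hr)
  rwa [nroots] at this

/-- the action of a word on the indices -/
def act (ω : List (Fin 2)) (r : ℕ) : ℕ := ω.foldr (fun i r => chevG2.reflectRoot (i : ℕ) r) r

theorem act_lt (ω : List (Fin 2)) {r : ℕ} (hr : r < 12) : act ω r < 12 := by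
  induction ω with
  | nil => exact hr
  | cons i ω ih => exact reflect_lt i _ ih

theorem rep_word (ω : List (Fin 2)) {r : ℕ} (hr : r < 12) :
    rep cs hp.isCartan (cs.wordProd ω) (v r) = v (act ω r) := by
  induction ω with
  | nil => rw [wordProd_nil, map_one, Module.End.one_apply]; rfl
  | cons i ω ih =>
    rw [wordProd_cons, rep_mul_apply, ih, rep_vec hp cs i (by rw [nroots]; exact act_lt ω hr)]
    rfl

/-- the longest word -/
def lw : List (Fin 2) := [0, 1, 0, 1, 0, 1]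

theorem act_lw : ((List.range 12).all fun r => Nat.beq (act lw r) (11 - r)) = true := by decide +kernel

theorem act_lw' {r : ℕ} (hr : r < 12) : act lw r = 11 - r :=
  Nat.eq_of_beq_eq_true (List.all_eq_true.1 act_lw r (List.mem_range.2 hr))

theorem rep_lw {x : Fin 2 → ℤ} (hx : IsRoot cs hp.isCartan x) : rep cs hp.isCartan (cs.wordProd lw) x = -x := by
  obtain ⟨r, hr, rfl⟩ := exists_v cs hx
  rw [rep_word cs lw hr, act_lw' hr, v_neg hr]

variable (K : Type u) [Field K]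

/-- the torus -/
abbrev TT : Subgroup ↥(chevG2.group K) := (chevG2.diagonalSubgroup K).subgroupOf (chevG2.group K)

/-- the root groups -/
abbrev XX (x : Fin 2 → ℤ) : Subgroup ↥(chevG2.group K) := (XV chevG2 2 K x).subgroupOf (chevG2.group K)

variable {K}

theorem mem_XX_iff {r : ℕ} (hr : r < 12) {g : ↥(chevG2.group K)} : g ∈ XX K (v r) ↔ ∃ t : K, g = xe hD r t := by
  rw [Subgroup.mem_subgroupOf, XV_vec hp K (by rwa [nroots]), mem_rootSubgroup_iff hD]
  exact ⟨fun ⟨t, ht⟩ => ⟨t, Subtype.ext ht⟩, fun ⟨t, ht⟩ => ⟨t, congrArg Subtype.val ht⟩⟩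

theorem GG_top : GG cs hp.isCartan (TT K) (XX K) = ⊤ :=
  Cfsg.Agent.KFacts.RgdRigid.GG_eq_top (G1_eq_top hp cs)

section Two

variable [Finite K] [CharP K 2]

theorem exists_rp (ω : List (Fin 2)) : ∃ m : ↥(chevG2.group K),
    Rp cs (rgd (K := K) hp cs 2).nsys (cs.wordProd ω) m ∧
      ∀ r < 12, ∀ t : K, m * xe hD r t * m⁻¹ = xe hD (act ω r) t := by
  induction ω with
  | nil =>
    refine ⟨1, ?_, fun r hr t => ?_⟩
    · rw [wordProd_nil]; exact rp_one
    · show 1 * xe hD r t * 1⁻¹ = xe hD r t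
      group
  | cons i ω ih =>
    obtain ⟨m, hm, ih⟩ := ih
    refine ⟨⟨nn hp K i, nn_mem_group hp i⟩ * m, ?_, fun r hr t => ?_⟩
    · rw [wordProd_cons]
      exact (rp_simple cs (rgd (K := K) hp cs 2).nsys i).mul hm
    · have h1 : (⟨nn hp K i, nn_mem_group hp i⟩ : ↥(chevG2.group K)) * xe hD (act ω r) t *
          (⟨nn hp K i, nn_mem_group hp i⟩ : ↥(chevG2.group K))⁻¹ = xe hD (act (i :: ω) r) t :=
        Subtype.ext (nG_conj_two hD (lt_rank hp i) (by rw [nroots]; exact act_lt ω hr) t)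
      rw [← h1, ← ih r hr t]
      group

omit [Finite K] in
theorem pow3 {r : ℕ} (hr : r < 12) : (xe hD r (1 : K) * xe hD (11 - r) 1) ^ 3 = 1 := by
  apply Subtype.ext
  have h0 : (2 : K) = 0 := CharTwo.two_eq_zero
  have h1 : (up (1 : K) * lo (1 : K)) ^ 3 = 1 := by
    apply Subtype.ext
    rw [Matrix.SpecialLinearGroup.coe_pow, Matrix.SpecialLinearGroup.coe_mul, Matrix.SpecialLinearGroup.coe_one]
    show (!![(1 : K), 1; 0, 1] * !![(1 : K), 0; 1, 1]) ^ 3 = 1
    rw [pow_succ, pow_two]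
    ext i j
    fin_cases i <;> fin_cases j <;> simp [Matrix.mul_apply, Fin.sum_univ_two]
    · linear_combination (6 : K) * h0
    · linear_combination (4 : K) * h0
    · linear_combination (4 : K) * h0
    · linear_combination (2 : K) * h0
  have h2 := congrArg (psi hD K r) h1
  rw [map_pow, map_mul, psi_up hD (by rwa [nroots]), psi_lo hD (by rwa [nroots]), map_one, neg_eq r hr] at h2
  exact h2

omit [Finite K] in
theorem sq (r : ℕ) (t : K) : xe hD r t * xe hD r t = 1 := by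
  rw [← xe_add, CharTwo.add_self_eq_zero, xe_zero]

theorem six_le : ∀ r < 12, (∀ c ∈ (chevG2.coroot.getD r #[]).toList, 0 ≤ c) → 6 ≤ r := by decide +kernel

theorem f1 : ∀ j : Fin 2, 1 - j ≠ j := by decide

theorem f2 : ∀ j : Fin 2, ((1 - j : Fin 2) : ℕ) = 1 - (j : ℕ) := by decide

theorem f3 : ∀ j k : Fin 2, k ≠ j → (k : ℕ) = 1 - (j : ℕ) := by decide

/-- generators of the centraliser of `x_R(1)` -/
def Ms (R : ℕ) : List ℕ := if R = 11 then [6, 7, 8, 9, 10, 11, 4] else [9, 10, 11, 6, 5]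

omit [Finite K] in
theorem cent_le (hf : Finite K) (hq : 4 ≤ Nat.card K) {R : ℕ} (hR : R = 11 ∨ R = 9)
    {H : Subgroup ↥(chevG2.group K)} (hH : ∀ s ∈ Ms R, ∀ t : K, xe hD s t ∈ H) {g : ↥(chevG2.group K)}
    (hg : g * xe hD R 1 = xe hD R 1 * g) : g ∈ H := by
  have : Fintype K := Fintype.ofFinite K
  rw [Nat.card_eq_fintype_card] at hq
  obtain ⟨h1, h2⟩ := Cfsg.Agent.S2180.result (F := K) hq (xG hD 11 1) (xG hD 9 1) (coe_xG _ _ _) (coe_xG _ _ _)
  have key : (g : GL chevG2.Idx K) ∈ H.map (chevG2.group K).subtype := by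
    have h3 : (g : GL chevG2.Idx K) ∈ chevG2.group K ⊓ Subgroup.centralizer {xG hD R (1 : K)} := by
      refine Subgroup.mem_inf.2 ⟨g.2, ?_⟩
      rw [Subgroup.mem_centralizer_singleton_iff]
      exact congrArg Subtype.val hg
    have h4 : ∀ s ∈ Ms R, ∀ t : K, xG hD s t ∈ H.map (chevG2.group K).subtype := fun s hs t => ⟨_, hH s hs t, rfl⟩
    have h5 : ∀ s ∈ Ms R, chevG2.rootSubgroup K s ≤ H.map (chevG2.group K).subtype := by
      intro s hs g hg
      obtain ⟨t, rfl⟩ := (mem_rootSubgroup_iff hD s g).1 hg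
      exact h4 s hs t
    rcases hR with rfl | rfl
    · rw [h1] at h3
      refine (sup_le ((posUnipotent_le_iff hD _).2 fun r hr t => ?_) (h5 4 (by decide))) h3
      refine h4 r ?_ t
      obtain ⟨h6, h7⟩ := hr
      rw [nroots] at h6
      have h7 := six_le r h6 h7
      interval_cases r <;> decide
    · rw [h2] at h3
      exact (sup_le (sup_le (sup_le (sup_le (h5 9 (by decide)) (h5 10 (by decide))) (h5 11 (by decide)))
        (h5 6 (by decide))) (h5 5 (by decide))) h3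
  obtain ⟨g', hg', e⟩ := key
  exact (Subtype.ext e : g' = g) ▸ hg'

theorem ok_comm : ∀ R ∈ [11, 9], ((Ms R).all fun s => Nat.beq s R || okB chevG2 R s []) = true := by decide +kernel

omit [Finite K] in
/-- the centraliser of `x_R(1)` centralises `X_R` -/
theorem cent_comm (hf : Finite K) (hq : 4 ≤ Nat.card K) {R : ℕ} (hR : R = 11 ∨ R = 9) {g : ↥(chevG2.group K)}
    (hg : g * xe hD R 1 = xe hD R 1 * g) (t : K) : g * xe hD R t = xe hD R t * g := by
  have h1 : g ∈ Subgroup.centralizer {xe hD R t} := by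
    refine cent_le hf hq hR (fun s hs u => ?_) hg
    rw [Subgroup.mem_centralizer_singleton_iff]
    have h2 := List.all_eq_true.1 (ok_comm R (by rcases hR with rfl | rfl <;> simp)) s hs
    rw [Bool.or_eq_true] at h2
    rcases h2 with h2 | h2
    · rw [Nat.eq_of_beq_eq_true h2, ← xe_add, ← xe_add, add_comm]
    · exact Subtype.ext (comm_of hD h2 t u).symm.eq
  rwa [Subgroup.mem_centralizer_singleton_iff] at h1

/-- an automorphism trivial on the root group of a fundamental root is inner -/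
theorem inner_of_fix (hq : 4 ≤ Nat.card K) {r R : ℕ} {ω : List (Fin 2)} (hr : r < 12) (hR : R = 11 ∨ R = 9)
    (hω : act ω r = R) {α : MulAut ↥(chevG2.group K)} (hα : ∀ t : K, α (xe hD r t) = xe hD r t) :
    ∃ g, α = MulAut.conj g := by
  have h3 : (3 : K) ≠ 0 := by
    have h0 : (2 : K) = 0 := CharTwo.two_eq_zero
    intro h
    apply one_ne_zero (α := K)
    linear_combination h - h0
  obtain ⟨g, τ, β, hβ, rfl⟩ := H245.DG.G2.aut_three_ne (F := K) h3 (by omega) α
  have h1 : ∀ t : K, g * xe hD r (τ t) * g⁻¹ = xe hD r t := by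
    intro t
    have := hα t
    rw [MulAut.mul_apply, MulAut.conj_apply, hβ r hr t] at this
    exact this
  obtain ⟨m, -, hm⟩ := exists_rp (K := K) CoxeterMatrix.G₂.toCoxeterSystem ω
  have h2 : ∀ t : K, g * xe hD r t * g⁻¹ = xe hD r t := by
    intro t
    have h4 : (m * g * m⁻¹) * xe hD R 1 = xe hD R 1 * (m * g * m⁻¹) := by
      have h5 := h1 1
      rw [map_one, mul_inv_eq_iff_eq_mul] at h5
      rw [← hω, ← hm r hr 1]
      calc m * g * m⁻¹ * (m * xe hD r 1 * m⁻¹) = m * (g * xe hD r 1) * m⁻¹ := by group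
        _ = m * (xe hD r 1 * g) * m⁻¹ := by rw [h5]
        _ = _ := by group
    have h6 := cent_comm inferInstance hq hR h4 t
    rw [← hω, ← hm r hr t] at h6
    rw [mul_inv_eq_iff_eq_mul]
    calc g * xe hD r t = m⁻¹ * (m * g * m⁻¹ * (m * xe hD r t * m⁻¹)) * m := by group
      _ = m⁻¹ * (m * xe hD r t * m⁻¹ * (m * g * m⁻¹)) * m := by rw [h6]
      _ = _ := by group
  have h7 : ∀ t : K, τ t = t := by
    intro t
    apply xe_inj hD (by rwa [nroots])
    rw [← h2 (τ t), h1]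
  refine ⟨g, ?_⟩
  have h8 : β = 1 := by
    apply H245.DG.G2.ext4 <;> intro t
    · exact (hβ 7 (by norm_num) t).trans (by rw [h7]; rfl)
    · exact (hβ 6 (by norm_num) t).trans (by rw [h7]; rfl)
    · exact (hβ 4 (by norm_num) t).trans (by rw [h7]; rfl)
    · exact (hβ 5 (by norm_num) t).trans (by rw [h7]; rfl)
  rw [h8, mul_one]

/-! ### The instances -/

theorem v_seven : v 7 = sr 0 := by
  have := vec_simple hp 0
  rwa [show chevG2.simple ((0 : Fin 2) : ℕ) = 7 by decide +kernel] at this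

theorem v_six : v 6 = sr 1 := by
  have := vec_simple hp 1
  rwa [show chevG2.simple ((1 : Fin 2) : ℕ) = 6 by decide +kernel] at this

/-- the roots of `J = {j}` -/
def inJ (j s : ℕ) : Bool := decide (rt chevG2 s (1 - j) = 0)

theorem mem_RootsJ {j : Fin 2} {s : ℕ} (hs : s < 12) :
    v s ∈ RootsJ cs hp.isCartan {j} ↔ inJ j s = true := by
  unfold inJ
  rw [decide_eq_true_iff]
  constructor
  · rintro ⟨-, h1⟩
    have h2 := h1 (1 - j) (f1 j)
    rw [← f2]
    exact h2
  · intro h1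
    refine ⟨isRoot_v cs hs, fun k hk => ?_⟩
    show rt chevG2 s (k : ℕ) = 0
    rw [f3 j k hk]
    exact h1

theorem XX_le_PJ {j : Fin 2} {s : ℕ} (hs : s < 12) (hJ : 6 ≤ s ∨ inJ j s = true) :
    XX K (v s) ≤ PJ cs hp.isCartan (TT K) (XX K) {j} := by
  rcases hJ with h1 | h1
  · have h2 : v s ∈ RGD.Pos cs hp.isCartan := by
      refine ⟨isRoot_v cs hs, fun k => ?_⟩
      have h3 : ∀ s < 12, 6 ≤ s → ∀ k : Fin 2, 0 ≤ rt chevG2 s k := by decide +kernel
      exact h3 s hs h1 k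
    exact le_trans (RGD.le_Sup h2) (le_trans RGD.U_le_B B_le_PJ)
  · exact le_trans (X_le_LJ ((mem_RootsJ cs hs).2 h1)) LJ_le_PJ

theorem okJ : ∀ R ∈ [(11, 0, 7), (9, 1, 6)], ((Ms R.1).all fun s => Nat.ble s 11 && (Nat.ble 6 s || inJ R.2.1 s)) = true ∧
    ((List.range 12).all fun s => !(inJ R.2.1 s) || okB chevG2 R.1 s []) = true ∧ inJ R.2.1 R.2.2 = true := by
  decide +kernel

/-- **The two classes.** -/
theorem good_aux (hq : 4 ≤ Nat.card K) {R R' r : ℕ} {j : Fin 2} (hR : R = 11 ∨ R = 9) (hR' : R' = 11 ∨ R' = 9)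
    (hJ : (R, (j : ℕ), r) ∈ [(11, 0, 7), (9, 1, 6)]) {ω : List (Fin 2)} (hω : act ω r = R') :
    Good (xe hD R (1 : K)) := by
  have cs := CoxeterMatrix.G₂.toCoxeterSystem
  have hW : Finite CoxeterMatrix.G₂.Group := finite_W hp cs
  have hR12 : R < 12 := by rcases hR with rfl | rfl <;> norm_num
  have hr12 : r < 12 := by
    simp only [List.mem_cons, Prod.mk.injEq, List.not_mem_nil, or_false] at hJ
    omega
  obtain ⟨o1, o2, o3⟩ := okJ _ hJ
  obtain ⟨m, hm, hmx⟩ := exists_rp (K := K) cs lw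
  have hmx' : m⁻¹ * xe hD R (1 : K) * m = xe hD (11 - R) 1 := by
    have h1 := hmx (11 - R) (by omega) 1
    rw [act_lw' (by omega), show 11 - (11 - R) = R by omega] at h1
    rw [← h1]; group
  refine H297.SK.Opp.good_opp (rgd (K := K) hp cs 2) (GG_top cs) (J := {j}) (k := 3) hm ?_ ?_ ?_ (by decide) ?_ ?_ ?_ ?_
  · intro x hx h0
    rw [rep_lw cs hx]
    exact neg_nonpos.2 h0
  · intro x hx
    rw [rep_lw cs hx.1]
    exact RootsJ.neg hx
  · exact sq R 1
  · rw [hmx']
    exact pow3 hR12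
  · intro g hg
    refine cent_le inferInstance hq hR (fun s hs t => ?_) hg
    have h1 := List.all_eq_true.1 o1 s hs
    rw [Bool.and_eq_true, Bool.or_eq_true, Nat.ble_eq, Nat.ble_eq] at h1
    have hs12 : s < 12 := by omega
    exact XX_le_PJ cs hs12 h1.2 ((mem_XX_iff hs12).2 ⟨t, rfl⟩)
  · intro x hx g hg
    obtain ⟨s, hs, rfl⟩ := exists_v cs hx.1
    have h1 := List.all_eq_true.1 o2 s (List.mem_range.2 hs)
    rw [(mem_RootsJ cs hs).1 hx, Bool.not_true, Bool.false_or] at h1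
    obtain ⟨t, rfl⟩ := (mem_XX_iff hs).1 hg
    exact Subtype.ext (comm_of hD h1 1 t).symm.eq
  · intro α hα
    refine inner_of_fix hq hr12 hR' hω fun t => ?_
    exact hα _ ((mem_RootsJ cs hr12).2 o3) _ ((mem_XX_iff hr12).2 ⟨t, rfl⟩)

end Two

/-- **Every involution of `G₂(q)`, `q ≥ 4` even, is good.** -/
theorem good_G2 [Finite K] [CharP K 2] (hq : 4 ≤ Nat.card K) (y : ↥(chevG2.group K)) (hy1 : y ≠ 1)
    (hy2 : y * y = 1) : Good y := by
  have : Fintype K := Fintype.ofFinite K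
  obtain ⟨-, h, -⟩ := Cfsg.Agent.S2177.result (F := K) (by rwa [← Nat.card_eq_fintype_card])
  obtain ⟨z, hz, hz', k, hk, e⟩ := h (y : GL chevG2.Idx K) y.2 (by
    rw [Subgroup.orderOf_coe]
    exact orderOf_eq_prime (by rw [pow_two]; exact hy2) hy1)
  have key : ∀ R : ℕ, Good (xe hD R (1 : K)) → z = xG hD R 1 → Good y := by
    intro R hg hz
    refine hg.of_isConj (IsConj.symm (isConj_iff.2 ⟨⟨k, hk⟩, Subtype.ext ?_⟩))
    exact e.trans hz
  rcases Cfsg.Agent.S2177.cases' hz' with h1 | h1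
  · exact key 11 (good_aux hq (j := 0) (R' := 9) (r := 7) (ω := [0, 1]) (Or.inl rfl) (Or.inr rfl) (by simp)
      (by decide +kernel)) h1
  · exact key 9 (good_aux hq (j := 1) (R' := 11) (r := 6) (ω := [1, 0]) (Or.inr rfl) (Or.inl rfl) (by simp)
      (by decide +kernel)) h1

/-- **The row `G₂(q)`, `q ≥ 4` even.** -/
theorem g2 : DeadS.{u} fun K _ => H731.SK.GTwoEven K := by
  intro G _ _ V K h he
  obtain ⟨F, _, _, _, hq, he⟩ := he
  rw [← Nat.card_eq_fintype_card] at hq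
  exact dead_of_good (fun y h1 h2 => good_G2 hq y h1 h2) (outLe_chev Lie.chevG2 (by simp)) V K h he

end Cfsg.Agent.H284.SK.G2
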