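import Cfsg.Agent.H284.SK.Sl

/-!
# S3010 (Sidki pairs), characteristic 2: the element `X` inverted by an involution `s` of `SL_n(F)` (helper284)
-/

set_option autoImplicit false
set_option linter.unusedVariables false
set_option linter.unusedSectionVars false
set_option linter.style.haveILetI false

open Matrix
open Cfsg.Agent.ClassicalGeometry.AutPSL.Root
open Cfsg.Agent.ClassicalGeometry.AutPSL.Auto
open Cfsg.Agent.H199.PslAut

namespace Cfsg.Agent.H284.SK

section L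

variable {F : Type*} [Field F] {k : ℕ} {L : Type} [Field L] [Algebra F L] {τ : L ≃ₐ[F] L} {ζ : L}

/-- induction principle: a property closed under sums, products, scalars and true for `ζ` holds for all of `L` -/
theorem Fd.induct (hF : Fd F k L τ ζ) (S : Subalgebra F L) (h : ζ ∈ S) (x : L) : x ∈ S := by
  have h1 : Algebra.adjoin F {ζ} ≤ S := Algebra.adjoin_le (by simpa using h)
  rw [hF.adj] at h1
  exact h1 Algebra.mem_top

/-- an `F`-linear map commuting with `ζ` is a multiplication -/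
theorem Fd.comm (hF : Fd F k L τ ζ) {N : Type*} [AddCommGroup N] [Module F N] (f : L →ₗ[F] L)
    (h : ∀ x, f (ζ * x) = ζ * f x) (x : L) : f x = x * f 1 := by
  let S : Subalgebra F L :=
    { carrier := {a | ∀ x, f (a * x) = a * f x}
      mul_mem' := by
        intro a b ha hb x
        rw [mul_assoc, ha, hb, mul_assoc]
      add_mem' := by
        intro a b ha hb x
        rw [add_mul, map_add, ha, hb, add_mul]
      algebraMap_mem' := by
        intro r x
        rw [← Algebra.smul_def, map_smul, Algebra.smul_def] }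
  have h1 : x ∈ S := hF.induct S h x
  have h2 := h1 1
  rwa [mul_one] at h2

theorem Fd.zeta_ne_zero (hF : Fd F k L τ ζ) : ζ ≠ 0 := by
  rintro rfl
  have h := hF.odd
  have : orderOf (0 : L) = 0 := by
    rw [orderOf_eq_zero_iff']
    intro n hn h
    rw [zero_pow hn.ne'] at h
    exact zero_ne_one h
  rw [this] at h
  exact absurd h (by decide)

theorem Fd.sub_ne_zero (hF : Fd F k L τ ζ) : ζ - 1 ≠ 0 := _root_.sub_ne_zero.2 hF.ne_one

end L

section model

variable {F : Type*} [Field F] {k c : ℕ} {L : Type} [Field L] [Algebra F L] {τ : L ≃ₐ[F] L} {ζ : L}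

/-- `(ℓ, z) ↦ (a ℓ, z)` -/
def Am (F : Type*) [Field F] {L : Type} [Field L] [Algebra F L] (c : ℕ) (a : L) :
    (L × (Fin c → F)) →ₗ[F] (L × (Fin c → F)) :=
  LinearMap.prodMap (LinearMap.mulLeft F a) LinearMap.id

@[simp] theorem Am_apply (a : L) (p : L × (Fin c → F)) : Am F c a p = (a * p.1, p.2) := rfl

/-- `(ℓ, z) ↦ (ℓ, B z)` -/
def Bm (L : Type) [Field L] [Algebra F L] (B : (Fin c → F) →ₗ[F] (Fin c → F)) :
    (L × (Fin c → F)) →ₗ[F] (L × (Fin c → F)) :=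
  LinearMap.prodMap LinearMap.id B

@[simp] theorem Bm_apply (B : (Fin c → F) →ₗ[F] (Fin c → F)) (p : L × (Fin c → F)) :
    Bm L B p = (p.1, B p.2) := rfl

/-- `(ℓ, z) ↦ (τ ℓ, z)` -/
def Tm (F : Type*) [Field F] {L : Type} [Field L] [Algebra F L] (c : ℕ) (τ : L ≃ₐ[F] L) :
    (L × (Fin c → F)) →ₗ[F] (L × (Fin c → F)) :=
  LinearMap.prodMap τ.toLinearMap LinearMap.id

@[simp] theorem Tm_apply (p : L × (Fin c → F)) : Tm F c τ p = (τ p.1, p.2) := rfl

theorem Am_pow (a : L) (m : ℕ) : (Am F c a) ^ m = Am F c (a ^ m) := by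
  induction m with
  | zero =>
    rw [pow_zero, pow_zero]
    apply LinearMap.ext
    intro p
    simp
  | succ m ih =>
    rw [pow_succ, ih]
    apply LinearMap.ext
    intro p
    show Am F c (a ^ m) (Am F c a p) = Am F c (a ^ (m + 1)) p
    simp only [Am_apply]
    rw [← mul_assoc, ← pow_succ]

theorem Am_one : Am F c (1 : L) = 1 := by
  apply LinearMap.ext
  intro p
  simp

/-- an endomorphism commuting with `(ζ, 1)` -/
theorem Fd.block (hF : Fd F k L τ ζ) (A : (L × (Fin c → F)) →ₗ[F] (L × (Fin c → F)))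
    (h : ∀ p, A (Am F c ζ p) = Am F c ζ (A p)) :
    ∃ (u : L) (B : (Fin c → F) →ₗ[F] (Fin c → F)), ∀ l z, A (l, z) = (l * u, B z) := by
  have h1 : ∀ l, (A (l, 0)).2 = 0 := by
    intro l
    have h2 := h (l / (ζ - 1), 0)
    simp only [Am_apply] at h2
    have h3 : A (l, 0) = A (ζ * (l / (ζ - 1)), 0) - A (l / (ζ - 1), 0) := by
      rw [← map_sub]
      congr 1
      refine Prod.ext ?_ (by simp)
      show l = ζ * (l / (ζ - 1)) - l / (ζ - 1)
      have h4 := hF.sub_ne_zero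
      field_simp
    rw [h3, h2]
    simp
  have h2 : ∀ z, (A (0, z)).1 = 0 := by
    intro z
    have h3 := h (0, z)
    simp only [Am_apply, mul_zero] at h3
    have h4 := congrArg Prod.fst h3
    simp only at h4
    have h5 : (ζ - 1) * (A (0, z)).1 = 0 := by
      rw [sub_mul, one_mul, sub_eq_zero]; exact h4.symm
    exact (mul_eq_zero.1 h5).resolve_left hF.sub_ne_zero
  let f : L →ₗ[F] L := LinearMap.fst F L (Fin c → F) ∘ₗ A ∘ₗ LinearMap.inl F L (Fin c → F)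
  let B : (Fin c → F) →ₗ[F] (Fin c → F) := LinearMap.snd F L (Fin c → F) ∘ₗ A ∘ₗ LinearMap.inr F L (Fin c → F)
  have hf : ∀ x, f (ζ * x) = ζ * f x := by
    intro x
    have h3 := h (x, 0)
    simp only [Am_apply] at h3
    exact congrArg Prod.fst h3
  refine ⟨f 1, B, ?_⟩
  intro l z
  have h3 : A (l, z) = A (l, 0) + A (0, z) := by
    rw [← map_add]
    congr 1
    simp
  rw [h3]
  refine Prod.ext ?_ ?_
  · show (A (l, 0)).1 + (A (0, z)).1 = l * f 1
    rw [h2, add_zero, ← hF.comm (N := F) f hf]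
    rfl
  · show (A (l, 0)).2 + (A (0, z)).2 = B z
    rw [h1, zero_add]
    rfl

variable [CharP F 2]

theorem Fd.det_zeta (hF : Fd F k L τ ζ) : LinearMap.det (Am F c ζ) = 1 := by
  apply det_eq_one_of_inv (S := Tm F c τ)
  · intro x
    simp [hF.tt]
  · intro x
    have h0 := hF.zeta_ne_zero
    simp only [Am_apply, Tm_apply, map_mul, hF.inv, hF.tt, map_inv₀, inv_inv]
    refine Prod.ext ?_ rfl
    show ζ⁻¹ * (ζ * x.1) = x.1
    rw [← mul_assoc, inv_mul_cancel₀ h0, one_mul]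

variable {n : ℕ}

/-- **The element `X`.** -/
noncomputable def Fd.X (hF : Fd F k L τ ζ) (Φ : (Fin n → F) ≃ₗ[F] (L × (Fin c → F))) :
    Matrix.SpecialLinearGroup (Fin n) F := mkS Φ (Am F c ζ) hF.det_zeta

theorem Fd.X_mulVec (hF : Fd F k L τ ζ) (Φ : (Fin n → F) ≃ₗ[F] (L × (Fin c → F))) (x : Fin n → F) :
    Φ ((hF.X Φ : Matrix (Fin n) (Fin n) F) *ᵥ x) = (ζ * (Φ x).1, (Φ x).2) := mkS_mulVec' _ _ _ _

theorem Fd.X_pow (hF : Fd F k L τ ζ) (Φ : (Fin n → F) ≃ₗ[F] (L × (Fin c → F))) : hF.X Φ ^ orderOf ζ = 1 :=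
  mkS_pow_eq_one _ _ _ (by rw [Am_pow, pow_orderOf_eq_one, Am_one])

theorem Fd.s_X_s (hF : Fd F k L τ ζ) (Φ : (Fin n → F) ≃ₗ[F] (L × (Fin c → F)))
    {s : Matrix.SpecialLinearGroup (Fin n) F}
    (hΦ : ∀ x, Φ ((s : Matrix (Fin n) (Fin n) F) *ᵥ x) = (τ (Φ x).1, (Φ x).2)) :
    s * hF.X Φ * s = (hF.X Φ)⁻¹ := by
  rw [eq_inv_iff_mul_eq_one]
  apply sl_ext' Φ
  intro x
  have h0 := hF.zeta_ne_zero
  rw [sl_mul_mulVec, sl_mul_mulVec, sl_mul_mulVec, hΦ, hF.X_mulVec, hΦ, hF.X_mulVec, map_mul, hF.inv, hF.tt,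
    ← mul_assoc, inv_mul_cancel₀ h0, one_mul, Matrix.SpecialLinearGroup.coe_one, one_mulVec]

theorem Fd.s_sq (hF : Fd F k L τ ζ) (Φ : (Fin n → F) ≃ₗ[F] (L × (Fin c → F)))
    {s : Matrix.SpecialLinearGroup (Fin n) F}
    (hΦ : ∀ x, Φ ((s : Matrix (Fin n) (Fin n) F) *ᵥ x) = (τ (Φ x).1, (Φ x).2)) : s * s = 1 := by
  apply sl_ext' Φ
  intro x
  rw [sl_mul_mulVec, hΦ, hΦ, hF.tt, Matrix.SpecialLinearGroup.coe_one, one_mulVec]

variable [Finite F]

/-- an involution of `SL_n(F)`: the model -/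
theorem exists_model_sl {s : Matrix.SpecialLinearGroup (Fin n) F} (hs : s * s = 1) (hs1 : s ≠ 1) :
    ∃ (k : ℕ) (_ : 1 ≤ k) (c : ℕ) (_ : 2 * k + c = n) (L : Type) (_ : Field L) (_ : Algebra F L)
      (_ : Module.Finite F L) (τ : L ≃ₐ[F] L) (ζ : L) (_ : Fd F k L τ ζ)
      (Φ : (Fin n → F) ≃ₗ[F] (L × (Fin c → F))),
      ∀ x, Φ ((s : Matrix (Fin n) (Fin n) F) *ᵥ x) = (τ (Φ x).1, (Φ x).2) := by
  have h1 : ∀ x, Matrix.toLin' (s : Matrix (Fin n) (Fin n) F) x = (s : Matrix (Fin n) (Fin n) F) *ᵥ x :=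
    fun x => rfl
  have := exists_model (F := F) (Matrix.toLin' (s : Matrix (Fin n) (Fin n) F)) (fun x => by
    rw [h1, h1, ← sl_mul_mulVec, hs, Matrix.SpecialLinearGroup.coe_one, one_mulVec]) (fun h => by
    apply hs1
    apply sl_ext
    intro x
    rw [← h1, h, Matrix.SpecialLinearGroup.coe_one, one_mulVec]
    rfl)
  exact this

/-- a linear involution `≠ 1` inverts an element `≠ 1` of odd order -/
theorem exists_inv {c : ℕ} (R : (Fin c → F) →ₗ[F] (Fin c → F)) (hR : ∀ x, R (R x) = x) (hR1 : R ≠ LinearMap.id) :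
    ∃ (B : (Fin c → F) →ₗ[F] (Fin c → F)) (m : ℕ), Odd m ∧ B ^ m = 1 ∧ B ≠ 1 ∧ ∀ x, R (B (R (B x))) = x := by
  obtain ⟨k, hk, d, hd, L, hL1, hL2, hL3, τ, ζ, hF, Φ, hΦ⟩ := exists_model R hR hR1
  let B : (Fin c → F) →ₗ[F] (Fin c → F) :=
    (Φ.symm : (L × (Fin d → F)) →ₗ[F] (Fin c → F)) ∘ₗ Am F d ζ ∘ₗ (Φ : (Fin c → F) →ₗ[F] (L × (Fin d → F)))
  have hB : ∀ x, Φ (B x) = (ζ * (Φ x).1, (Φ x).2) := by
    intro x
    show Φ (Φ.symm (Am F d ζ (Φ x))) = _
    rw [LinearEquiv.apply_symm_apply]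
    rfl
  have h0 := hF.zeta_ne_zero
  have hpow : ∀ (m : ℕ) x, Φ ((B ^ m) x) = (ζ ^ m * (Φ x).1, (Φ x).2) := by
    intro m
    induction m with
    | zero => intro x; simp
    | succ m ih =>
      intro x
      rw [pow_succ, Module.End.mul_apply, ih, hB]
      refine Prod.ext ?_ rfl
      show ζ ^ m * (ζ * (Φ x).1) = _
      rw [← mul_assoc, ← pow_succ]
  refine ⟨B, orderOf ζ, hF.odd, ?_, ?_, ?_⟩
  · apply LinearMap.ext
    intro x
    apply Φ.injective
    rw [hpow, pow_orderOf_eq_one, one_mul]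
    rfl
  · intro h
    have h1 := hB (Φ.symm (1, 0))
    rw [h, Module.End.one_apply, LinearEquiv.apply_symm_apply] at h1
    have h2 := congrArg Prod.fst h1
    simp only [mul_one] at h2
    exact hF.ne_one h2.symm
  · intro x
    apply Φ.injective
    rw [hΦ, hB, hΦ, hB, map_mul, hF.inv, hF.tt]
    refine Prod.ext ?_ rfl
    show ζ⁻¹ * (ζ * (Φ x).1) = (Φ x).1
    rw [← mul_assoc, inv_mul_cancel₀ h0, one_mul]

end model

end Cfsg.Agent.H284.SK
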