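import Cfsg.Agent.H284.SK.PslEven
import Cfsg.Agent.H277.SK.Alt
import Cfsg.Agent.S0256

/-!
# S3010 (Sidki pairs): the row `PSL_n(q)`, `q` even, complete (helper284)
-/

set_option autoImplicit false

universe u v

namespace Cfsg.Agent.H284.SK

/-- **The row `PSL_n(q)`, `q` even, `n ≥ 2`** (`PSL_4(2) ≅ A_8` by the row of helper277). -/
theorem dead_psl_even {F : Type v} [Field F] [Finite F] [CharP F 2] {n : ℕ} (hn : 2 ≤ n) :
    Cfsg.Agent.H282.SK.DeadS.{u}
      (fun K _ => Nonempty (K ≃* Matrix.ProjectiveSpecialLinearGroup (Fin n) F)) := by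
  rintro G _ _ V K h ⟨e⟩
  by_cases h42 : n = 4 ∧ Nat.card F = 2
  · obtain ⟨rfl, hc⟩ := h42
    have : Fintype F := Fintype.ofFinite F
    rw [Nat.card_eq_fintype_card] at hc
    obtain ⟨k⟩ := Cfsg.Agent.S0256.result hc
    exact Cfsg.Agent.H277.SK.dead_alt V K h ⟨8, by norm_num, by norm_num, ⟨e.trans k⟩⟩
  · exact srow_psl h e hn h42

end Cfsg.Agent.H284.SK
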