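import Cfsg.Agent.H199.PslAut
import Cfsg.Agent.H284.SK.Norm

/-!
# S3010 (Sidki pairs), characteristic 2: tools for `SL_n(F)` (helper284)
-/

set_option autoImplicit false
set_option linter.unusedVariables false
set_option linter.unusedSectionVars false
set_option linter.style.haveILetI false

open Matrix
open Cfsg.Agent.ClassicalGeometry.AutPSL.Root
open Cfsg.Agent.ClassicalGeometry.AutPSL.Auto
open Cfsg.Agent.H199.PslAut

namespace Cfsg.Agent.H284.SK

section mk

variable {F : Type*} [Field F] {n : ℕ} {M : Type*} [AddCommGroup M] [Module F M]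

/-- The element of `SL_n(F)` that acts as `A` on `M`, `Φ : F^n ≃ M`. -/
def mkS (Φ : (Fin n → F) ≃ₗ[F] M) (A : M →ₗ[F] M) (hA : LinearMap.det A = 1) :
    Matrix.SpecialLinearGroup (Fin n) F :=
  ⟨LinearMap.toMatrix' ((Φ.symm : M →ₗ[F] (Fin n → F)) ∘ₗ A ∘ₗ (Φ : (Fin n → F) →ₗ[F] M)), by
    rw [LinearMap.det_toMatrix']
    have h := LinearMap.det_conj A Φ.symm
    rw [LinearEquiv.symm_symm] at h
    rw [← hA, ← h]⟩

theorem mkS_mulVec (Φ : (Fin n → F) ≃ₗ[F] M) (A : M →ₗ[F] M) (hA : LinearMap.det A = 1) (x : Fin n → F) :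
    (mkS Φ A hA : Matrix (Fin n) (Fin n) F) *ᵥ x = Φ.symm (A (Φ x)) := by
  show LinearMap.toMatrix' _ *ᵥ x = _
  rw [LinearMap.toMatrix'_mulVec]
  rfl

theorem mkS_mulVec' (Φ : (Fin n → F) ≃ₗ[F] M) (A : M →ₗ[F] M) (hA : LinearMap.det A = 1) (x : Fin n → F) :
    Φ ((mkS Φ A hA : Matrix (Fin n) (Fin n) F) *ᵥ x) = A (Φ x) := by
  rw [mkS_mulVec, LinearEquiv.apply_symm_apply]

theorem mkS_mulVec_symm (Φ : (Fin n → F) ≃ₗ[F] M) (A : M →ₗ[F] M) (hA : LinearMap.det A = 1) (x : M) :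
    (mkS Φ A hA : Matrix (Fin n) (Fin n) F) *ᵥ (Φ.symm x) = Φ.symm (A x) := by
  rw [mkS_mulVec, LinearEquiv.apply_symm_apply]

/-- an element of `SL_n(F)` is determined by its action on `M` -/
theorem sl_ext' (Φ : (Fin n → F) ≃ₗ[F] M) {X Y : Matrix.SpecialLinearGroup (Fin n) F}
    (h : ∀ x, Φ ((X : Matrix (Fin n) (Fin n) F) *ᵥ x) = Φ ((Y : Matrix (Fin n) (Fin n) F) *ᵥ x)) : X = Y :=
  sl_ext fun x => Φ.injective (h x)

theorem mkS_mul (Φ : (Fin n → F) ≃ₗ[F] M) (A B : M →ₗ[F] M) (hA : LinearMap.det A = 1)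
    (hB : LinearMap.det B = 1) (hAB : LinearMap.det (A * B) = 1) : mkS Φ A hA * mkS Φ B hB = mkS Φ (A * B) hAB := by
  apply sl_ext' Φ
  intro x
  rw [sl_mul_mulVec, mkS_mulVec', mkS_mulVec', mkS_mulVec']
  rfl

theorem mkS_pow (Φ : (Fin n → F) ≃ₗ[F] M) (A : M →ₗ[F] M) (hA : LinearMap.det A = 1) (m : ℕ) (x : Fin n → F) :
    Φ (((mkS Φ A hA ^ m : Matrix.SpecialLinearGroup (Fin n) F) : Matrix (Fin n) (Fin n) F) *ᵥ x) =
      (A ^ m) (Φ x) := by
  induction m generalizing x with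
  | zero =>
    rw [pow_zero, pow_zero, Matrix.SpecialLinearGroup.coe_one, one_mulVec]
    rfl
  | succ m ih => rw [pow_succ, sl_mul_mulVec, ih, mkS_mulVec', pow_succ]; rfl

theorem mkS_pow_eq_one (Φ : (Fin n → F) ≃ₗ[F] M) (A : M →ₗ[F] M) (hA : LinearMap.det A = 1) {m : ℕ}
    (h : A ^ m = 1) : mkS Φ A hA ^ m = 1 := by
  apply sl_ext' Φ
  intro x
  rw [mkS_pow, h, Matrix.SpecialLinearGroup.coe_one, one_mulVec]
  rfl

theorem mkS_comm (Φ : (Fin n → F) ≃ₗ[F] M) (A B : M →ₗ[F] M) (hA : LinearMap.det A = 1)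
    (hB : LinearMap.det B = 1) (h : ∀ x, A (B x) = B (A x)) : mkS Φ A hA * mkS Φ B hB = mkS Φ B hB * mkS Φ A hA := by
  apply sl_ext' Φ
  intro x
  rw [sl_mul_mulVec, sl_mul_mulVec, mkS_mulVec', mkS_mulVec', mkS_mulVec', mkS_mulVec', h]

end mk

section char2

variable {F : Type*} [Field F] [CharP F 2] {n : ℕ}

theorem eq_one_of_sq {x : F} (h : x * x = 1) : x = 1 := by
  have h2 : (2 : F) = 0 := CharTwo.two_eq_zero
  have h3 : (x - 1) * (x - 1) = 0 := by linear_combination h - (x - 1) * h2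
  rcases mul_eq_zero.1 h3 with h4 | h4 <;> exact sub_eq_zero.1 h4

theorem eq_one_of_eq_inv {x : F} (hx : x ≠ 0) (h : x = x⁻¹) : x = 1 := by
  apply eq_one_of_sq
  nth_rw 2 [h]
  exact mul_inv_cancel₀ hx

theorem det_eq_one_of_sq {M : Type*} [AddCommGroup M] [Module F M] {A : M →ₗ[F] M} (h : ∀ x, A (A x) = x) :
    LinearMap.det A = 1 := by
  apply eq_one_of_sq
  rw [← map_mul]
  have : A * A = 1 := LinearMap.ext h
  rw [this, map_one]

/-- an element inverted by an involution has determinant 1 -/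
theorem det_eq_one_of_inv {M : Type*} [AddCommGroup M] [Module F M] {A S : M →ₗ[F] M} (hS : ∀ x, S (S x) = x)
    (h : ∀ x, S (A (S (A x))) = x) : LinearMap.det A = 1 := by
  apply eq_one_of_sq
  have h1 : S * A * S * A = 1 := LinearMap.ext h
  have h2 := congrArg LinearMap.det h1
  rw [map_mul, map_mul, map_mul, det_eq_one_of_sq hS, one_mul, mul_one, map_one] at h2
  exact h2

end char2

section pr

variable {F : Type*} [Field F] [CharP F 2] {n : ℕ}

theorem smul_ne_zero_of {X Y : Matrix.SpecialLinearGroup (Fin n) F} [Nonempty (Fin n)] {c : F}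
    (h : (Y : Matrix (Fin n) (Fin n) F) = c • (X : Matrix (Fin n) (Fin n) F)) : c ≠ 0 := by
  rintro rfl
  rw [zero_smul] at h
  have h1 := Y.2
  rw [show (Y.1 : Matrix (Fin n) (Fin n) F) = 0 from h, Matrix.det_zero] at h1
  exact zero_ne_one h1

/-- **Exactness.** An automorphism `ψ` of `SL_n(F)` that fixes modulo scalars an involution `s` and an element `X`
inverted by `s` fixes both. -/
theorem exact_of_pr [Nonempty (Fin n)] (ψ : MulAut (Matrix.SpecialLinearGroup (Fin n) F))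
    {s X : Matrix.SpecialLinearGroup (Fin n) F} (hs : s * s = 1) (hX : s * X * s = X⁻¹)
    (h1 : pr (ψ s) = pr s) (h2 : pr (ψ X) = pr X) : ψ s = s ∧ ψ X = X := by
  obtain ⟨c, hc⟩ := exists_smul_of_pr_eq h1
  obtain ⟨d, hd⟩ := exists_smul_of_pr_eq h2
  have hc0 := smul_ne_zero_of hc
  have hd0 := smul_ne_zero_of hd
  -- from matrices to elements
  have key : ∀ {A B : Matrix.SpecialLinearGroup (Fin n) F} {r : F},
      (A : Matrix (Fin n) (Fin n) F) = r • (B : Matrix (Fin n) (Fin n) F) → r = 1 → A = B := by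
    intro A B r h hr
    apply Subtype.ext
    rw [hr, one_smul] at h
    exact h
  have hone : ∀ {r : F}, ((1 : Matrix.SpecialLinearGroup (Fin n) F) : Matrix (Fin n) (Fin n) F) =
      r • ((1 : Matrix.SpecialLinearGroup (Fin n) F) : Matrix (Fin n) (Fin n) F) → r = 1 := by
    intro r h
    have i : Fin n := Classical.arbitrary _
    have h3 := congrFun (congrFun h i) i
    rw [Matrix.SpecialLinearGroup.coe_one, Matrix.smul_apply, one_apply_eq, smul_eq_mul, mul_one] at h3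
    exact h3.symm
  have hs' : ψ s * ψ s = 1 := by rw [← map_mul, hs, map_one]
  have hc1 : c = 1 := by
    have h3 : (s : Matrix (Fin n) (Fin n) F) * s = (c * c) • ((ψ s : Matrix (Fin n) (Fin n) F) * (ψ s)) := by
      rw [hc, smul_mul_assoc, mul_smul_comm, smul_smul]
    rw [← Matrix.SpecialLinearGroup.coe_mul, ← Matrix.SpecialLinearGroup.coe_mul, hs, hs'] at h3
    exact eq_one_of_sq (hone h3)
  have hss : ψ s = s := (key hc hc1).symm
  refine ⟨hss, ?_⟩
  have hX' : s * ψ X * s = (ψ X)⁻¹ := by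
    have := congrArg ψ hX
    rw [map_mul, map_mul, hss, map_inv] at this
    exact this
  -- `X = d ψ X`
  have hd1 : d = 1 := by
    have h3 : ((X⁻¹ : Matrix.SpecialLinearGroup (Fin n) F) : Matrix (Fin n) (Fin n) F) =
        d • (((ψ X)⁻¹ : Matrix.SpecialLinearGroup (Fin n) F) : Matrix (Fin n) (Fin n) F) := by
      rw [← hX, ← hX', Matrix.SpecialLinearGroup.coe_mul, Matrix.SpecialLinearGroup.coe_mul,
        Matrix.SpecialLinearGroup.coe_mul, Matrix.SpecialLinearGroup.coe_mul, hd, mul_smul_comm, smul_mul_assoc]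
    have h4 : ((1 : Matrix.SpecialLinearGroup (Fin n) F) : Matrix (Fin n) (Fin n) F) =
        (d * d) • ((1 : Matrix.SpecialLinearGroup (Fin n) F) : Matrix (Fin n) (Fin n) F) := by
      have h5 : ((X * X⁻¹ : Matrix.SpecialLinearGroup (Fin n) F) : Matrix (Fin n) (Fin n) F) =
          (d * d) • ((ψ X * (ψ X)⁻¹ : Matrix.SpecialLinearGroup (Fin n) F) : Matrix (Fin n) (Fin n) F) := by
        rw [Matrix.SpecialLinearGroup.coe_mul,
          Matrix.SpecialLinearGroup.coe_mul, h3, hd, smul_mul_assoc, mul_smul_comm, smul_smul]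
      rwa [mul_inv_cancel, mul_inv_cancel] at h5
    exact eq_one_of_sq (hone h4)
  exact (key hd hd1).symm

/-- linear involutions come from involutions of `SL_n(F)` -/
theorem exists_sl_of_sq [Finite F] (hn : 2 ≤ n) (g : GL (Fin n) F) (h : Psi n F g * Psi n F g = 1) :
    ∃ R : Matrix.SpecialLinearGroup (Fin n) F, R * R = 1 ∧ Psi n F (R : GL (Fin n) F) = Psi n F g := by
  haveI : Nonempty (Fin n) := ⟨⟨0, by omega⟩⟩
  rw [← map_mul, Psi_eq_one_iff hn] at h
  obtain ⟨u, hu⟩ := h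
  haveI : Fintype F := Fintype.ofFinite F
  have hch : ringChar F = 2 := ringChar.eq F 2
  obtain ⟨t, ht⟩ := FiniteField.isSquare_of_char_two hch (u : F)
  have ht0 : t ≠ 0 := by
    rintro rfl
    rw [mul_zero] at ht
    exact u.ne_zero ht
  set t' : Fˣ := Units.mk0 t ht0 with ht'
  have hut : u = t' * t' := Units.ext ht
  set g' : GL (Fin n) F := g * scal n F t'⁻¹ with hg'
  have hcomm : ∀ (r : Fˣ) (a : GL (Fin n) F), scal n F r * a = a * scal n F r := by
    intro r a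
    apply Units.ext
    rw [Units.val_mul, Units.val_mul, coe_scal]
    exact (Matrix.scalar_commute (r : F) (fun _ => Commute.all _ _) (a : Matrix (Fin n) (Fin n) F)).eq
  have hsq : g' * g' = 1 := by
    rw [hg', mul_assoc, ← mul_assoc (scal n F t'⁻¹) g, hcomm, mul_assoc g, ← mul_assoc g, ← map_mul, hu, hut,
      ← map_mul]
    simp
  have hdet : (g' : Matrix (Fin n) (Fin n) F).det = 1 := by
    apply eq_one_of_sq
    rw [← det_mul, ← Units.val_mul, hsq, Units.val_one, det_one]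
  let R : Matrix.SpecialLinearGroup (Fin n) F := ⟨(g' : Matrix (Fin n) (Fin n) F), hdet⟩
  refine ⟨R, ?_, ?_⟩
  · apply Subtype.ext
    show (g' : Matrix (Fin n) (Fin n) F) * g' = 1
    rw [← Units.val_mul, hsq, Units.val_one]
  · have h1 : (R : GL (Fin n) F) = g' := Units.ext rfl
    rw [h1, hg', map_mul, Psi_scal, mul_one]

end pr

end Cfsg.Agent.H284.SK
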